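import Groth.Agent.L20.Pinch.Cases
import Groth.Agent.L20.Pinch.Exists
import Mathlib.RingTheory.Ideal.Operations

/-!
Finite sets of points in affine opens of a pinching.
-/

set_option linter.style.haveILetI false
set_option linter.unusedSectionVars false
set_option backward.isDefEq.respectTransparency.types false

universe u

open CategoryTheory Limits AlgebraicGeometry Opposite

namespace Groth.Agent.L24.PinchFinite

open Groth.L20.Pinch

variable {X Y Z : Scheme.{u}} {i : Z ⟶ X} {j : Z ⟶ Y} [IsClosedImmersion i]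

/-- A pinching in which every pair is a chart. -/
theorem exists_all_charts (h : Std i j) :
    ∃ (P : Scheme.{u}) (a : X ⟶ P) (b : Y ⟶ P), IsPinch i j a b ∧
      ∀ k : Pair i j, ∃ u : k.spec ⟶ P, IsOpenImmersion u ∧
        a ⁻¹' Set.range u = (k.U : Set X) ∧ b ⁻¹' Set.range u = (k.V : Set Y) := by
  obtain ⟨a, ha⟩ := exists_glue_affine (κ := Pair i j) (fun k => k.U) (fun k => k.hU)
    (fun {k l} (hkl : k ≤ l) => (Pair.le_def.mp hkl).1) h.exists_mem_U Pair.dirU
    (fun k => k.inX ≫ colimit.ι (Pair.diagram i j) k) fun {k l} hkl => by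
      rw [← Category.assoc, ← Pair.inX_trans hkl, Category.assoc]
      congr 1
      exact colimit.w (Pair.diagram i j) (homOfLE hkl)
  obtain ⟨b, hb⟩ := exists_glue_affine (κ := Pair i j) (fun k => k.V) (fun k => k.hV)
    (fun {k l} (hkl : k ≤ l) => (Pair.le_def.mp hkl).2) h Pair.dirV
    (fun k => k.inY ≫ colimit.ι (Pair.diagram i j) k) fun {k l} hkl => by
      rw [← Category.assoc, ← Pair.inY_trans hkl, Category.assoc]
      congr 1
      exact colimit.w (Pair.diagram i j) (homOfLE hkl)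
  have key : ∀ k : Pair i j,
      a ⁻¹' Set.range (colimit.ι (Pair.diagram i j) k) = (k.U : Set X) ∧
        b ⁻¹' Set.range (colimit.ι (Pair.diagram i j) k) = (k.V : Set Y) := by
    intro k
    refine ⟨?_, ?_⟩
    · refine Set.Subset.antisymm ?_ fun x hx => ?_
      · rintro x ⟨q', hq'⟩
        obtain ⟨l, hl⟩ := h.exists_mem_U x
        obtain ⟨q'', rfl⟩ : x ∈ Set.range l.hU.fromSpec := by rw [l.hU.range_fromSpec]; exact hl
        rw [← Scheme.Hom.comp_apply, ha, Scheme.Hom.comp_apply] at hq'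
        obtain ⟨d, fk, fl, r, -, h2⟩ := (Scheme.IsLocallyDirected.ι_eq_ι_iff (Pair.diagram i j)).mp hq'
        obtain ⟨-, O, hO, -, hOX⟩ := Pair.trans'_spec fl.le
        have : l.inX q'' ∈ O := hO.le ⟨r, h2⟩
        exact fk.le.1 ((hOX q'').mp this)
      · obtain ⟨q', rfl⟩ : x ∈ Set.range k.hU.fromSpec := by rw [k.hU.range_fromSpec]; exact hx
        exact ⟨k.inX q', (congr($(ha k) q')).symm⟩
    · refine Set.Subset.antisymm ?_ fun x hx => ?_
      · rintro x ⟨q', hq'⟩
        obtain ⟨l, hl⟩ := h x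
        obtain ⟨q'', rfl⟩ : x ∈ Set.range l.hV.fromSpec := by rw [l.hV.range_fromSpec]; exact hl
        rw [← Scheme.Hom.comp_apply, hb, Scheme.Hom.comp_apply] at hq'
        obtain ⟨d, fk, fl, r, -, h2⟩ := (Scheme.IsLocallyDirected.ι_eq_ι_iff (Pair.diagram i j)).mp hq'
        obtain ⟨-, O, hO, hOY, -⟩ := Pair.trans'_spec fl.le
        have : l.inY q'' ∈ O := hO.le ⟨r, h2⟩
        exact fk.le.2 ((hOY q'').mp this)
      · obtain ⟨q', rfl⟩ : x ∈ Set.range k.hV.fromSpec := by rw [k.hV.range_fromSpec]; exact hx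
        exact ⟨k.inY q', (congr($(hb k) q')).symm⟩
  refine ⟨_, a, b, ⟨?_, fun p => ?_⟩, fun k => ⟨colimit.ι (Pair.diagram i j) k,
    Scheme.IsLocallyDirected.instIsOpenImmersionι (Pair.diagram i j) k, key k⟩⟩
  · refine Pair.exists_cover_W (fun z => h.exists_mem_U (i z)) _ _ fun k => ?_
    rw [← Category.assoc, k.spec_i, Category.assoc, ha, ← Category.assoc, k.square,
      ← Category.assoc k.hW.fromSpec j, k.spec_j, Category.assoc, Category.assoc, hb]
  · obtain ⟨k, q, hq⟩ := Scheme.IsLocallyDirected.ι_jointly_surjective (Pair.diagram i j) p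
    exact ⟨k, colimit.ι (Pair.diagram i j) k, Scheme.IsLocallyDirected.instIsOpenImmersionι (Pair.diagram i j) k,
      ⟨q, hq⟩, ha k, hb k, (key k).1, (key k).2⟩

/-- Translate an element by an element of an ideal so that it avoids finitely many primes. -/
theorem exists_add_notMem {A : Type*} [CommRing A] (I : Ideal A) (h : A)
    (s : Finset (PrimeSpectrum A)) (hs : ∀ p ∈ s, I ≤ p.asIdeal → h ∉ p.asIdeal) :
    ∃ k ∈ I, ∀ p ∈ s, h + k ∉ p.asIdeal := by
  classical
  induction s using Finset.strongInduction with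
  | H s ih =>
    rcases s.eq_empty_or_nonempty with rfl | hne
    · exact ⟨0, I.zero_mem, fun p hp => absurd hp (Finset.notMem_empty p)⟩
    obtain ⟨p, hp, hmin⟩ := s.exists_minimal hne
    obtain ⟨k, hk, hka⟩ := ih (s.erase p) (Finset.erase_ssubset hp)
      fun q hq => hs q (Finset.mem_of_mem_erase hq)
    by_cases hkp : h + k ∈ p.asIdeal
    · obtain ⟨k', hk', hk'p⟩ : ∃ k' ∈ I ⊓ (s.erase p).inf (fun q => q.asIdeal), k' ∉ p.asIdeal := by
        refine SetLike.not_le_iff_exists.mp fun hle => ?_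
        rcases p.2.inf_le.mp hle with h1 | h1
        · exact hs p hp h1 ((Ideal.add_mem_iff_left _ (h1 hk)).mp hkp)
        · obtain ⟨q, hq, hqp⟩ := p.2.inf_le'.mp h1
          exact (Finset.mem_erase.mp hq).1
            (le_antisymm hqp (hmin (Finset.mem_of_mem_erase hq) hqp))
      refine ⟨k + k', I.add_mem hk hk'.1, fun q hq hmem => ?_⟩
      rw [← add_assoc] at hmem
      rcases eq_or_ne q p with rfl | hqp
      · exact hk'p ((Ideal.add_mem_iff_right _ hkp).mp hmem)
      · have hq' := Finset.mem_erase.mpr ⟨hqp, hq⟩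
        exact hka q hq' ((Ideal.add_mem_iff_left _ ((Finset.inf_le (f := fun q : PrimeSpectrum A => q.asIdeal) hq') hk'.2)).mp hmem)
    · exact ⟨k, hk, fun q hq => by
        rcases eq_or_ne q p with rfl | hqp
        · exact hkp
        · exact hka q (Finset.mem_erase.mpr ⟨hqp, hq⟩)⟩

theorem mem_basicOpen_iff {U : X.Opens} (hU : IsAffineOpen U) (f : Γ(X, U)) (x : U) :
    (x : X) ∈ X.basicOpen f ↔ f ∉ (hU.primeIdealOf x).asIdeal := by
  constructor
  · intro hx
    have h1 : hU.primeIdealOf x ∈ hU.fromSpec ⁻¹ᵁ X.basicOpen f := by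
      show hU.fromSpec (hU.primeIdealOf x) ∈ X.basicOpen f
      rw [hU.fromSpec_primeIdealOf]; exact hx
    rw [hU.fromSpec_preimage_basicOpen] at h1
    exact h1
  · intro hx
    have h1 : hU.primeIdealOf x ∈ PrimeSpectrum.basicOpen f := hx
    rw [← hU.fromSpec_preimage_basicOpen] at h1
    change hU.fromSpec (hU.primeIdealOf x) ∈ X.basicOpen f at h1
    rwa [hU.fromSpec_primeIdealOf] at h1

/-- A finite set of an affine open inside a given open lies in a basic open inside it. -/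
theorem exists_basicOpen_finite {U : X.Opens} (hU : IsAffineOpen U) (O : X.Opens) (E : Finset X)
    (hEU : ∀ x ∈ E, x ∈ U) (hEO : ∀ x ∈ E, x ∈ O) :
    ∃ f : Γ(X, U), (∀ x ∈ E, x ∈ X.basicOpen f) ∧ X.basicOpen f ≤ O := by
  classical
  let C : Set (PrimeSpectrum Γ(X, U)) := (hU.fromSpec ⁻¹' (O : Set X))ᶜ
  have hC : IsClosed C := (O.isOpen.preimage hU.fromSpec.continuous).isClosed_compl
  let I := PrimeSpectrum.vanishingIdeal C
  have hpt : ∀ x : E, ¬ I ≤ (hU.primeIdealOf ⟨x.1, hEU x.1 x.2⟩).asIdeal := by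
    intro x hle
    have : hU.primeIdealOf ⟨x.1, hEU x.1 x.2⟩ ∈ PrimeSpectrum.zeroLocus (I : Set Γ(X, U)) := hle
    rw [PrimeSpectrum.zeroLocus_vanishingIdeal_eq_closure, hC.closure_eq] at this
    exact this (by
      show hU.fromSpec _ ∈ O
      rw [hU.fromSpec_primeIdealOf]
      exact hEO x.1 x.2)
  obtain ⟨f, hfI, hf⟩ : ∃ f ∈ I, ∀ x : E, f ∉ (hU.primeIdealOf ⟨x.1, hEU x.1 x.2⟩).asIdeal := by
    by_contra hne
    push Not at hne
    have hsub : (I : Set Γ(X, U)) ⊆ ⋃ x ∈ (E.attach : Set E),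
        ((hU.primeIdealOf ⟨x.1, hEU x.1 x.2⟩).asIdeal : Set Γ(X, U)) := fun f hf => by
      obtain ⟨x, hx⟩ := hne f hf
      exact Set.mem_biUnion (Finset.mem_attach _ x) hx
    rcases E.eq_empty_or_nonempty with rfl | ⟨x₀, hx₀⟩
    · obtain ⟨x, -⟩ := hne 0 I.zero_mem
      exact absurd x.2 (Finset.notMem_empty _)
    obtain ⟨x, -, hx⟩ := (Ideal.subset_union_prime (⟨x₀, hx₀⟩ : E) ⟨x₀, hx₀⟩
      (fun x _ _ _ => PrimeSpectrum.isPrime _)).mp hsub
    exact hpt x hx
  refine ⟨f, fun x hx => (mem_basicOpen_iff hU f ⟨x, hEU x hx⟩).mpr (hf ⟨x, hx⟩), fun y hy => ?_⟩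
  by_contra hyO
  refine (mem_basicOpen_iff hU f ⟨y, X.basicOpen_le f hy⟩).mp hy
    ((PrimeSpectrum.mem_vanishingIdeal _ _).mp hfI _ ?_)
  show hU.fromSpec _ ∉ O
  rw [hU.fromSpec_primeIdealOf]
  exact hyO

/-- Finite sets of two sides with the same trace lie in a pair. -/
theorem exists_pair [IsClosedImmersion j] {U : X.Opens} (hU : IsAffineOpen U) {V : Y.Opens}
    (hV : IsAffineOpen V) (E : Finset X) (F : Finset Y) (hE : ∀ x ∈ E, x ∈ U) (hF : ∀ y ∈ F, y ∈ V)
    (heq : ∀ z, i z ∈ E ↔ j z ∈ F) :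
    ∃ k : Pair i j, (∀ x ∈ E, x ∈ k.U) ∧ ∀ y ∈ F, y ∈ k.V := by
  classical
  obtain ⟨f, hfE, hfle⟩ := exists_basicOpen_finite hU
    ⟨(i '' (j ⁻¹' (V : Set Y))ᶜ)ᶜ, (i.isClosedMap _ (V.isOpen.preimage j.continuous).isClosed_compl).isOpen_compl⟩
    E hE (by
      rintro x hx ⟨z, hz, rfl⟩
      exact hz (hF _ ((heq z).mp hx)))
  set U' := X.basicOpen f with hU'def
  have hU' : IsAffineOpen U' := hU.basicOpen f
  have hW1 : i ⁻¹ᵁ U' ≤ j ⁻¹ᵁ V := fun z hz => by
    by_contra hzV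
    exact hfle hz ⟨z, hzV, rfl⟩
  obtain ⟨g, hgF, hgle⟩ := exists_basicOpen_finite hV
    ⟨(j '' (i ⁻¹' (U' : Set X))ᶜ)ᶜ, (j.isClosedMap _ (U'.isOpen.preimage i.continuous).isClosed_compl).isOpen_compl⟩
    F hF (by
      rintro y hy ⟨z, hz, rfl⟩
      exact hz (hfE _ ((heq z).mpr hy)))
  have hW2 : j ⁻¹ᵁ Y.basicOpen g ≤ i ⁻¹ᵁ U' := fun z hz => by
    by_contra hzU
    exact hgle hz ⟨z, hzU, rfl⟩
  obtain ⟨h, hh⟩ := i.app_surjective U' hU' (Z.presheaf.map (homOfLE hW1).op (j.app V g))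
  obtain ⟨k, hk, hka⟩ := exists_add_notMem (RingHom.ker (i.app U').hom) h
    ((E.attach.image fun x : {x // x ∈ E} => hU'.primeIdealOf ⟨(x : X), hfE (x : X) x.2⟩)) (by
      intro p hp hle
      obtain ⟨x, -, rfl⟩ := Finset.mem_image.mp hp
      -- `x` is in the image of `i`
      obtain ⟨z, hz⟩ : x.1 ∈ Set.range i := by
        by_contra hx
        obtain ⟨a, ha, hale⟩ := exists_basicOpen_finite hU'
          ⟨(Set.range i)ᶜ, i.isClosedEmbedding.isClosed_range.isOpen_compl⟩ {x.1}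
          (by simp [hfE x.1 x.2]) (by simpa using hx)
        have hbot : Z.basicOpen (i.app U' a) = ⊥ := by
          rw [← Scheme.preimage_basicOpen, eq_bot_iff]
          exact fun z hz => hale hz ⟨z, rfl⟩
        have hW := hU'.preimage i
        obtain ⟨n, hn⟩ : IsNilpotent (i.app U' a) := by
          rw [← PrimeSpectrum.basicOpen_eq_bot_iff, ← hW.fromSpec_preimage_basicOpen, hbot]
          rfl
        refine (mem_basicOpen_iff hU' a ⟨x.1, hfE x.1 x.2⟩).mp (ha x.1 (Finset.mem_singleton_self _))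
          (Ideal.IsPrime.mem_of_pow_mem inferInstance n (hle ?_))
        rw [RingHom.mem_ker, map_pow]
        exact hn
      rw [← mem_basicOpen_iff hU' h ⟨x.1, hfE x.1 x.2⟩]
      show x.1 ∈ X.basicOpen h
      rw [← hz]
      show z ∈ i ⁻¹ᵁ X.basicOpen h
      rw [Scheme.preimage_basicOpen, hh, Scheme.basicOpen_res]
      refine ⟨?_, ?_⟩
      · show i z ∈ U'
        rw [hz]; exact hfE x.1 x.2
      · rw [← Scheme.preimage_basicOpen]
        exact hgF _ ((heq z).mp (by rw [hz]; exact x.2)))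
  refine ⟨⟨X.basicOpen (h + k), Y.basicOpen g, hU'.basicOpen _, hV.basicOpen g, ?_⟩,
    fun x hx => (mem_basicOpen_iff hU' _ ⟨x, hfE x hx⟩).mpr
      (hka _ (Finset.mem_image.mpr ⟨⟨x, hx⟩, Finset.mem_attach _ _, rfl⟩)), hgF⟩
  have hk0 : i.app U' k = 0 := hk
  rw [Scheme.preimage_basicOpen, map_add, hk0, add_zero, hh, Scheme.basicOpen_res,
    ← Scheme.preimage_basicOpen, inf_eq_right.mpr hW2]

end Groth.Agent.L24.PinchFinite
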